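import Cfsg.Agent.H860.QS.Asm
import Cfsg.Agent.H523.QO.A1Row
import Cfsg.Agent.H92.QS.ESix
import Cfsg.Agent.H231.QS.Row2E6
import Cfsg.Agent.H109.QO.MTwelve
import Cfsg.Agent.H109.QO.JTwo
import Cfsg.Agent.H767.QO.HSRow
import Cfsg.Agent.H344.QS.McL
import Cfsg.Agent.H264.QS.Suz6
import Cfsg.Agent.H788.QS.SzRow
import Cfsg.Agent.H643.QO.ESeven
import Cfsg.Agent.H972.QS.TStar
import Cfsg.Agent.H347.HX.G23.Row
import Cfsg.Agent.H509.QS.Row
import Cfsg.Agent.H514.QS.J3Row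
import Cfsg.Agent.H890.QON.Row
import Cfsg.Agent.H33.QRu.Row
import Cfsg.Agent.H204.QS.SpSix
import Cfsg.Agent.H815.QS.OEight
import Cfsg.Agent.H926.QS.O73Row
import Cfsg.Agent.H374.QS.FF.Row
import Cfsg.Agent.S1066

/-!
# S2491, S2492: the rows which are proved (helper323)

`fill R` : `QRows N` from the open rows `R : QRest N`.
-/

set_option autoImplicit false

namespace Cfsg.Agent.H323.QS

open Cfsg.Agent.H777.Ore Cfsg.Agent.H51.Mult Cfsg.Agent.H6.QO

universe u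

/-- The rows not imported here. -/
structure QRest (N : Prop) : Prop where
  ore : ∀ (K : Type u) [Group K] [Finite K] [IsSimpleGroup K], ¬ IsMulCommutative K → AllC K
  psu62 : N → ∀ (F : Type) [Field F] [Fintype F], Fintype.card F = 4 → RowN (PSU 6 F 2)
  te62 : N → ∀ (F : Type) [Field F] [Fintype F], Fintype.card F = 4 → RowN ↥(Lie.twistedE6 F 2)
  m22 : N → ∀ (K : Type u) [Group K], Spor.IsoM22 K → RowN K
  fi22 : N → ∀ (K : Type u) [Group K], Spor.IsoFi22 K → RowN K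
  co1 : ∀ (K : Type u) [Group K], Spor.IsoCo1 K → RowA K
  fi24 : ∀ (K : Type u) [Group K], Spor.IsoFi24' K → RowA K
  b : ∀ (K : Type u) [Group K], Spor.IsoB K → RowA K

theorem two_ne_zero_of_odd {F : Type} [Field F] [Fintype F] (h : Odd (Fintype.card F)) : (2 : F) ≠ 0 := by
  intro h0
  have h1 : (2 : ℕ) ∣ Fintype.card F := by
    obtain ⟨p, hp⟩ := CharP.exists F
    have h2 : p ∣ 2 := (CharP.cast_eq_zero_iff F p 2).1 (by exact_mod_cast h0)
    obtain ⟨n, hpp, hn⟩ := FiniteField.card F p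
    have h3 : p = 2 := (Nat.prime_dvd_prime_iff_eq hpp Nat.prime_two).1 h2
    subst h3
    rw [hn]
    exact dvd_pow_self 2 n.pos.ne'
  exact (Nat.not_even_iff_odd.2 h) (even_iff_two_dvd.2 h1)

theorem card_te62 (F : Type) [Field F] [Fintype F] (hF : Fintype.card F = 4) :
    Nat.card ↥(Lie.twistedE6 F 2) = 76532479683774853939200 := by
  have := Cfsg.Agent.S1066.result (K := F) Nat.prime_two.isPrimePow hF
  norm_num at this ⊢
  omega

theorem fill {N : Prop} (R : QRest.{u} N) : H860.QS.QRows.{u} N where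
  ore := R.ore
  alt := fun _ hn h6 h7 => H523.QO.rowA_alt hn h6 h7
  psl := fun _ _ _ _ hn h4 h9 h34 => H523.QO.rowA_psl hn h4 h9 h34
  psp := fun _ _ _ _ hm h3 h62 => H523.QO.rowA_psp hm h3 h62
  psu := fun _ _ _ _ _ hF hn hex h43 h62 => H523.QO.rowA_psu hF hn hex h43 h62
  psp62 := fun _ _ _ h => H204.QS.SpSix.rowA_PSp h
  psu62 := R.psu62
  poo := fun F _ _ m hm ho => by
    by_cases h : m = 3 ∧ Fintype.card F = 3
    · obtain ⟨rfl, h⟩ := h
      exact H926.QS.O73Row.rowA_O73 h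
    · exact H383.QS.row_odd (two_ne_zero_of_odd ho) hm h
  pop := fun _ _ _ _ hm ho => H972.QS.ra_plus (two_ne_zero_of_odd ho) hm
  pop82 := fun F _ _ h => H815.QS.rowA_pop82 F h
  pom := fun _ _ _ _ a b hm ho hab => H972.QS.ra_minus (two_ne_zero_of_odd ho) (by omega) a b hab
  g23 := fun _ _ _ h => H347.HX.G23.rowA h
  g24 := fun _ _ _ h => H509.QS.rowA_g2_four h
  f42 := fun _ _ _ h => H374.QS.FF.rowA h
  e6 := fun _ _ _ h => H92.QS.rowA_E6 h
  te6 := fun _ _ _ _ hq hF h3 h2 => H231.QS.Row2E6.rowA_twistedE6 hq hF (by omega) h2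
  e7 := fun F _ _ ho _ _ _ _ hπ => H643.QO.allC_cover_E7 F ho hπ
  te62 := R.te62
  sz8 := fun _ _ _ h => H788.QS.Sz.rowA' h
  m22 := R.m22
  m12 := fun _ _ h => H109.QO.MTwelve.row_m12 h
  j2 := fun _ _ h => H109.QO.JTwo.row_j2 h
  hs := fun _ _ h => H767.QO.HS.row_hs h
  mcl := fun _ _ h => H344.QS.McL.rowA_mcl h
  suz := fun _ _ h => H264.QS.Suz6.ra_suz h
  j3 := fun _ _ h => H514.QS.rowA_j3 h
  ru := fun _ _ h => H33.QRu.row_ru h
  on := fun _ _ h => H890.QON.rowA_on h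
  co1 := R.co1
  fi22 := R.fi22
  fi24 := R.fi24
  b := R.b

end Cfsg.Agent.H323.QS
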