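import Cfsg.Prelude.Def_Classification2
import Cfsg.Agent.H6.QO.Frame
import Cfsg.Agent.S2034
import Cfsg.Agent.S2037
import Cfsg.Agent.S2038
import Cfsg.Agent.S2039
import Cfsg.Agent.S2042
import Cfsg.Agent.S2044
import Cfsg.Agent.S2045
import Cfsg.Agent.S2049
import Cfsg.Agent.S2050
import Cfsg.Agent.S2054
import Cfsg.Agent.S2056
import Cfsg.Agent.S2057
import Cfsg.Agent.S2059
import Cfsg.Agent.S2096
import Cfsg.Agent.S2097
import Cfsg.Agent.S2099
import Cfsg.Agent.S2100
import Cfsg.Agent.S2103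
import Cfsg.Agent.S2105
import Cfsg.Agent.S2106
import Cfsg.Agent.S2107
import Cfsg.Agent.S2108
import Cfsg.Agent.S2110
import Cfsg.Agent.S2111
import Cfsg.Agent.S2113
import Cfsg.Agent.S2114
import Cfsg.Agent.S2115

/-!
# S2491, S2492: the simple groups with trivial Schur multiplier (helper323)

`triv` : `K ≃* X`, the multiplier of `X` trivial, all elements of `K` commutators: `RowA K`.  The rest are the
instances: A2 (orthogonal groups in characteristic two), A3 (exceptional groups), A4 (sporadic groups).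
-/

set_option autoImplicit false

namespace Cfsg.Agent.H323.QS

open Cfsg.Agent.H777.Ore Cfsg.Agent.H51.Mult Cfsg.Agent.H6.QO

universe u v w w'

theorem triv {K : Type u} [Group K] {X : Type v} [Group X] (e : Nonempty (K ≃* X))
    (hm : HasCyclicSchurMultiplier X 1) (h : AllC K) : RowA K := by
  obtain ⟨e⟩ := e
  exact (RowA.of_simple' hm (AllC.congr e h)).congr e.symm

theorem multCongr {G : Type u} [Group G] {A : Type v} [CommGroup A] {B : Type w} [CommGroup B] (e : A ≃* B)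
    (h : HasSchurMultiplier G A) : HasSchurMultiplier G B := by
  obtain ⟨⟨Γ, i1, i2, σ, hσ, ⟨f⟩⟩, h2⟩ := h
  refine ⟨⟨Γ, i1, i2, σ, hσ, ⟨f.trans e⟩⟩, ?_⟩
  intro Γ' _ _ σ' hσ'
  obtain ⟨π, hπ⟩ := h2 Γ' σ' hσ'
  exact ⟨π.comp e.symm.toMonoidHom, hπ.comp e.symm.surjective⟩

section Spor

variable {K : Type u} [Group K]

theorem m11 (h : Spor.IsoM11 K) (hC : AllC K) : RowA K := triv h Cfsg.Agent.S2034.result hC
theorem m23 (h : Spor.IsoM23 K) (hC : AllC K) : RowA K := triv h Cfsg.Agent.S2037.result hC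
theorem m24 (h : Spor.IsoM24 K) (hC : AllC K) : RowA K := triv h Cfsg.Agent.S2038.result hC
theorem j1 (h : Spor.IsoJ1 K) (hC : AllC K) : RowA K := triv h Cfsg.Agent.S2039.result hC
theorem j4 (h : Spor.IsoJ4 K) (hC : AllC K) : RowA K := triv h Cfsg.Agent.S2042.result hC
theorem co2 (h : Spor.IsoCo2 K) (hC : AllC K) : RowA K := triv h Cfsg.Agent.S2044.result hC
theorem co3 (h : Spor.IsoCo3 K) (hC : AllC K) : RowA K := triv h Cfsg.Agent.S2045.result hC
theorem he (h : Spor.IsoHe K) (hC : AllC K) : RowA K := triv h Cfsg.Agent.S2049.result hC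
theorem ly (h : Spor.IsoLy K) (hC : AllC K) : RowA K := triv h Cfsg.Agent.S2050.result hC
theorem fi23 (h : Spor.IsoFi23 K) (hC : AllC K) : RowA K := triv h Cfsg.Agent.S2054.result hC
theorem hn (h : Spor.IsoHN K) (hC : AllC K) : RowA K := triv h Cfsg.Agent.S2056.result hC
theorem th (h : Spor.IsoTh K) (hC : AllC K) : RowA K := triv h Cfsg.Agent.S2057.result hC
theorem mo (h : Spor.IsoM K) (hC : AllC K) : RowA K := triv h Cfsg.Agent.S2059.result hC

end Spor

section Exc

variable {K : Type u} [Group K]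

theorem g2 {F : Type v} [Field F] [Fintype F] (hF : 5 ≤ Fintype.card F)
    (e : Nonempty (K ≃* ↥(Lie.chevG2.group F))) (hC : AllC K) : RowA K := triv e (Cfsg.Agent.S2100.result hF) hC

theorem f4 {F : Type v} [Field F] [Fintype F] (hF : 3 ≤ Fintype.card F)
    (e : Nonempty (K ≃* ↥(Lie.chevF4.group F))) (hC : AllC K) : RowA K := triv e (Cfsg.Agent.S2103.result hF) hC

theorem e6 {F : Type v} [Field F] [Fintype F] (hF : ¬ 3 ∣ Fintype.card F - 1)
    (e : Nonempty (K ≃* ↥(Lie.chevE6.group F))) (hC : AllC K) : RowA K := by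
  have h := Cfsg.Agent.S2105.result (F := F) rfl
  rw [(Nat.Prime.coprime_iff_not_dvd Nat.prime_three).2 hF |>.gcd_eq_one] at h
  exact triv e h hC

theorem e7 {F : Type v} [Field F] [Fintype F] (hF : Even (Fintype.card F))
    (e : Nonempty (K ≃* ↥(Lie.chevE7.group F))) (hC : AllC K) : RowA K := by
  have h := Cfsg.Agent.S2106.result (F := F) rfl
  have h2 : ¬ 2 ∣ Fintype.card F - 1 := by
    have := Fintype.card_pos (α := F)
    obtain ⟨k, hk⟩ := hF
    omega
  rw [(Nat.Prime.coprime_iff_not_dvd Nat.prime_two).2 h2 |>.gcd_eq_one] at h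
  exact triv e h hC

theorem e8 {F : Type v} [Field F] [Fintype F]
    (e : Nonempty (K ≃* ↥(Lie.chevE8.group F))) (hC : AllC K) : RowA K := triv e Cfsg.Agent.S2107.result hC

theorem te6 {F : Type v} [Field F] [Fintype F] {q : ℕ} (hq : IsPrimePow q) (hF : Fintype.card F = q ^ 2) (h2 : q ≠ 2)
    (h3 : ¬ 3 ∣ q + 1) (e : Nonempty (K ≃* ↥(Lie.twistedE6 F q))) (hC : AllC K) : RowA K := by
  have h := Cfsg.Agent.S2108.result hq hF h2
  rw [(Nat.Prime.coprime_iff_not_dvd Nat.prime_three).2 h3 |>.gcd_eq_one] at h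
  exact triv e h hC

theorem td4 {F : Type v} [Field F] [Fintype F] {q : ℕ} (hq : IsPrimePow q) (hF : Fintype.card F = q ^ 3)
    (e : Nonempty (K ≃* ↥(Lie.twistedD4 F q))) (hC : AllC K) : RowA K :=
  triv e (Cfsg.Agent.S2110.result hq hF) hC

theorem sz {F : Type v} [Field F] [Fintype F] {m : ℕ} (hm : 2 ≤ m) (hF : Fintype.card F = 2 ^ (2 * m + 1))
    (e : Nonempty (K ≃* ↥(Lie.Sz F (2 ^ (m + 1))))) (hC : AllC K) : RowA K :=
  triv e (Cfsg.Agent.S2111.result hm hF) hC

theorem ree (h : Lie.IsoRee K) (hC : AllC K) : RowA K := by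
  obtain ⟨F, _, _, m, hm, hF, e⟩ := h
  exact triv e (Cfsg.Agent.S2113.result hm hF) hC

theorem tf4 (h : Lie.Iso2F4 K) (hC : AllC K) : RowA K := by
  obtain ⟨F, _, _, m, hm, hF, e⟩ := h
  exact triv e (Cfsg.Agent.S2114.result hm hF) hC

theorem tits' (hC : AllC Lie.TitsGroup) : RowA Lie.TitsGroup := RowA.of_simple' Cfsg.Agent.S2115.result hC

theorem tits (h : Lie.IsoTits K) (hC : AllC K) : RowA K := by
  obtain ⟨e⟩ := h
  exact (tits' (AllC.congr e hC)).congr e.symm

end Exc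

section Orth

variable {K : Type u} [Group K]

theorem odd_pow_sub {q l : ℕ} (hq : Even q) (h0 : q ≠ 0) (hl : l ≠ 0) : Odd (q ^ l - 1) := by
  have h1 : Even (q ^ l) := (Nat.even_pow.2 ⟨hq, hl⟩)
  have h2 : 0 < q ^ l := Nat.pos_of_ne_zero (pow_ne_zero l h0)
  obtain ⟨k, hk⟩ := h1
  exact ⟨k - 1, by omega⟩

theorem gcd_four {n : ℕ} (h : Odd n) : Nat.gcd 4 n = 1 := by
  have h1 : Nat.Coprime (2 ^ 2) n := Nat.Coprime.pow_left 2 ((Nat.coprime_two_left).2 h)
  exact h1

/-- A2, plus type -/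
theorem pop {F : Type v} [Field F] [Fintype F] (hq : Even (Fintype.card F)) {l : ℕ} (hl : 4 ≤ l)
    (hexc : ¬ (l = 4 ∧ Fintype.card F = 2)) (e : Nonempty (K ≃* POmega F (quadFormPlus l F))) (hC : AllC K) :
    RowA K := by
  have hodd := odd_pow_sub (l := l) hq (Fintype.card_ne_zero) (by omega)
  rcases Nat.even_or_odd l with he | ho
  · have h := Cfsg.Agent.S2097.result (F := F) rfl l hl he hexc
    rw [(Nat.coprime_two_left).2 hodd |>.gcd_eq_one] at h
    refine triv e (multCongr ?_ h) hC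
    exact AddEquiv.toMultiplicative
      { toFun := fun _ => 0
        invFun := fun _ => 0
        left_inv := fun x => Subsingleton.elim (α := ZMod 1 × ZMod 1) _ _
        right_inv := fun x => Subsingleton.elim (α := ZMod 1) _ _
        map_add' := fun _ _ => Subsingleton.elim (α := ZMod 1) _ _ }
  · have h5 : 5 ≤ l := by
      obtain ⟨k, hk⟩ := ho
      omega
    have h := Cfsg.Agent.S2096.result (F := F) rfl l h5 ho
    rw [gcd_four hodd] at h
    exact triv e h hC

/-- A2, minus type -/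
theorem pom {F : Type v} [Field F] [Fintype F] (hq : Even (Fintype.card F)) {l : ℕ} (hl : 4 ≤ l) {a b : F}
    (hab : ∀ z₁ z₂ : F, z₁ ^ 2 + a * z₁ * z₂ + b * z₂ ^ 2 = 0 → z₁ = 0 ∧ z₂ = 0)
    (e : Nonempty (K ≃* POmega F (quadFormMinus (l - 1) F a b))) (hC : AllC K) : RowA K := by
  have h := Cfsg.Agent.S2099.result (F := F) rfl l hl a b hab
  have hodd : Odd (Fintype.card F ^ l + 1) := (Nat.even_pow.2 ⟨hq, by omega⟩).add_one
  rw [gcd_four hodd] at h
  exact triv e h hC

end Orth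

end Cfsg.Agent.H323.QS
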